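import Groth.Agent.Stk19b.Quot.ToSp
import Groth.Agent.Stk19.Fp2
import Groth.Agent.Stk19.AlgSt.PointsTop
import Groth.Agent.AlgSpLib.LfpSpaces
import Groth.Agent.AlgSpLib.YonCoprod
import Groth.Prelude.Def_StCoarse

/-! Being a categorical moduli space is etale local on the target. -/

set_option autoImplicit false
set_option linter.style.haveILetI false
set_option backward.isDefEq.respectTransparency false
set_option backward.isDefEq.respectTransparency.types false

universe u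

open CategoryTheory CategoryTheory.Limits AlgebraicGeometry Opposite FibCat
open Groth.Agent.Stk19 Groth.Agent.Stk19b.Quot
open Groth.Agent.AlgSpLib (sigmaOver sigmaOverι)

namespace Groth.Agent.Stk19b.Moduli

variable {S : Scheme.{u}} {𝒵 𝒲 : AlgSt.Cat S} {M N : AlgSp.Sp S}

/-- The section attached to an object, as a morphism. -/
noncomputable def σ (ψ : 𝒵 ⥤ᵇ AlgSt.ofSp M) (x : 𝒵.obj) : (AlgSp.yon S).obj (𝒵.p.obj x) ⟶ M :=
  (AlgSp.yon S).map (eqToHom (ψ.w_obj x).symm : 𝒵.p.obj x ⟶ (ψ.obj x).base) ≫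
    (GrothendieckTopology.uliftYonedaEquiv.{u + 1} (AlgSp.J S)).symm (ψ.obj x).sec

theorem σ_map (ψ : 𝒵 ⥤ᵇ AlgSt.ofSp M) {x' x : 𝒵.obj} (φ : x' ⟶ x) :
    σ ψ x' = (AlgSp.yon S).map (𝒵.p.map φ) ≫ σ ψ x := by
  have hm : (ψ.map φ).hom = eqToHom (ψ.w_obj x') ≫ 𝒵.p.map φ ≫ eqToHom (ψ.w_obj x).symm := based_map ψ φ
  unfold σ
  rw [← Category.assoc, ← Functor.map_comp]
  apply (GrothendieckTopology.uliftYonedaEquiv.{u + 1} (AlgSp.J S)).injective
  rw [← GrothendieckTopology.uliftYonedaEquiv_naturality, ← GrothendieckTopology.uliftYonedaEquiv_naturality,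
    Equiv.apply_symm_apply, Equiv.apply_symm_apply, ← (ψ.map φ).map_sec, hm]
  simp

theorem σ_ofSpMap (ψ : 𝒵 ⥤ᵇ AlgSt.ofSp M) (g : M ⟶ N) (x : 𝒵.obj) :
    σ (BasedFunctor.comp ψ (AlgSt.ofSpMap g)) x = σ ψ x ≫ g := by
  unfold σ
  rw [Category.assoc]
  refine congrArg (_ ≫ ·) ?_
  apply (GrothendieckTopology.uliftYonedaEquiv.{u + 1} (AlgSp.J S)).injective
  rw [GrothendieckTopology.uliftYonedaEquiv_comp]
  refine (Equiv.apply_symm_apply _ _).trans ?_
  exact (congrArg (g.hom.app _) (Equiv.apply_symm_apply _ _)).symm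

theorem σ_comp (F : 𝒲 ⥤ᵇ 𝒵) (ψ : 𝒵 ⥤ᵇ AlgSt.ofSp M) (z : 𝒲.obj) :
    σ (BasedFunctor.comp F ψ) z = (AlgSp.yon S).map (eqToHom (F.w_obj z).symm) ≫ σ ψ (F.obj z) := by
  unfold σ
  rw [← Category.assoc, ← Functor.map_comp, eqToHom_trans]
  rfl

theorem σ_ext {ψ ψ' : 𝒵 ⥤ᵇ AlgSt.ofSp M} (h : ∀ x, σ ψ x = σ ψ' x) : ψ = ψ' := basedFunctor_ext fun x => by
  have h' := congrArg (GrothendieckTopology.uliftYonedaEquiv.{u + 1} (AlgSp.J S)) (h x)
  unfold σ at h'
  rw [← GrothendieckTopology.uliftYonedaEquiv_naturality, ← GrothendieckTopology.uliftYonedaEquiv_naturality,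
    Equiv.apply_symm_apply, Equiv.apply_symm_apply] at h'
  refine eltObj_ext ((ψ.w_obj x).trans (ψ'.w_obj x).symm) ?_
  have h2 := congrArg (M.obj.map (eqToHom (ψ.w_obj x)).op) h'
  rw [← Functor.map_comp_apply, ← Functor.map_comp_apply, ← op_comp, ← op_comp, eqToHom_trans, eqToHom_trans] at h2
  simpa using h2.symm

/-- `h` is the value of the factorisation of `φ` over `a`. -/
def Good (f : 𝒵 ⥤ᵇ AlgSt.ofSp M) (φ : 𝒵 ⥤ᵇ AlgSt.ofSp N) {W : Over S} (a : (AlgSp.yon S).obj W ⟶ M)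
    (h : (AlgSp.yon S).obj W ⟶ N) : Prop :=
  ∀ (x : 𝒵.obj) (u : 𝒵.p.obj x ⟶ W), (AlgSp.yon S).map u ≫ a = σ f x → (AlgSp.yon S).map u ≫ h = σ φ x

variable {f : 𝒵 ⥤ᵇ AlgSt.ofSp M} {φ : 𝒵 ⥤ᵇ AlgSt.ofSp N}

theorem Good.comp {W' W : Over S} (v : W' ⟶ W) {a : (AlgSp.yon S).obj W ⟶ M} {h : (AlgSp.yon S).obj W ⟶ N}
    (hh : Good f φ a h) : Good f φ ((AlgSp.yon S).map v ≫ a) ((AlgSp.yon S).map v ≫ h) := fun x u hu => by
  rw [← Category.assoc, ← Functor.map_comp]
  exact hh x (u ≫ v) (by rw [Functor.map_comp, Category.assoc, hu])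

theorem existsUnique_good_of_isCatModuli {W : Over S} (a : (AlgSp.yon S).obj W ⟶ M) (hN : AlgSp.IsAlgSpace N)
    (hc : AlgSt.IsCatModuli (FibCat.fpFst (AlgSt.ofSpMap a) f)) : ∃! h, Good f φ a h := by
  let p := FibCat.fpFst (AlgSt.ofSpMap a) f
  let q := FibCat.fpSnd (AlgSt.ofSpMap a) f
  obtain ⟨g, ⟨i⟩, hu⟩ := hc.2 N hN (BasedFunctor.comp q φ)
  have hw : BasedFunctor.comp p (AlgSt.ofSpMap a) = BasedFunctor.comp q f :=
    eq_of_iso (fpIso (AlgSt.ofSpMap a) f)
  have key : ∀ h, Good f φ a h ↔ BasedFunctor.comp p (AlgSt.ofSpMap h) = BasedFunctor.comp q φ := by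
    intro h
    constructor
    · intro hh
      refine σ_ext fun z => ?_
      obtain ⟨u, hu⟩ := (AlgSp.yon S).map_surjective (σ p z)
      have e := congrArg (fun t => σ t z) hw
      rw [σ_ofSpMap, σ_comp] at e
      let u' : 𝒵.p.obj (q.obj z) ⟶ W := eqToHom (q.w_obj z) ≫ u
      have h1 : (AlgSp.yon S).map u' ≫ a = σ f (q.obj z) := by
        rw [Functor.map_comp, Category.assoc, hu, e, ← Category.assoc, ← Functor.map_comp, eqToHom_trans, eqToHom_refl,
          CategoryTheory.Functor.map_id, Category.id_comp]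
      rw [σ_ofSpMap, σ_comp, ← hh _ u' h1, ← hu]
      simp [u']
    · intro heq x u hx
      let s : (AlgSt.ofSch W).obj :=
        ⟨𝒵.p.obj x, (GrothendieckTopology.uliftYonedaEquiv.{u + 1} (AlgSp.J S)) ((AlgSp.yon S).map u)⟩
      have es : (AlgSt.ofSpMap a).obj s = f.obj x := by
        refine eltObj_ext (f.w_obj x).symm ?_
        show M.obj.map (eqToHom (f.w_obj x).symm).op (f.obj x).sec =
          a.hom.app (op (𝒵.p.obj x)) ((GrothendieckTopology.uliftYonedaEquiv.{u + 1} (AlgSp.J S)) ((AlgSp.yon S).map u))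
        have h' := congrArg (GrothendieckTopology.uliftYonedaEquiv.{u + 1} (AlgSp.J S)) hx
        unfold σ at h'
        rw [GrothendieckTopology.uliftYonedaEquiv_comp, ← GrothendieckTopology.uliftYonedaEquiv_naturality,
          Equiv.apply_symm_apply] at h'
        exact h'.symm
      let z : (fp (AlgSt.ofSpMap a) f).obj := fpMk s x (eqToIso es) (by
        refine vert_of_map_eq _ (h := congrArg (AlgSt.ofSp M).p.obj es) ?_
        rw [eqToIso.hom, eqToHom_map])
      have hz : σ p z = (AlgSp.yon S).map u := by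
        show (AlgSp.yon S).map (𝟙 _) ≫ (GrothendieckTopology.uliftYonedaEquiv.{u + 1} (AlgSp.J S)).symm _ = _
        rw [CategoryTheory.Functor.map_id, Category.id_comp]
        exact Equiv.symm_apply_apply _ _
      have e := congrArg (fun t => σ t z) heq
      rw [σ_ofSpMap, σ_comp] at e
      have e' : (AlgSp.yon S).map u ≫ h = (AlgSp.yon S).map (eqToHom rfl) ≫ σ φ x :=
        ((congrArg (· ≫ h) hz).symm.trans e)
      simpa using e'
  exact ⟨g, (key g).2 (eq_of_iso i), fun g' hg' => hu g' ⟨eqToIso ((key g').1 hg')⟩⟩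

/-- Etale locally categorical moduli spaces are categorical moduli spaces. -/
theorem isCatModuli_of_local (h𝒵 : IsFibGrpd 𝒵.p) (hM : AlgSp.IsAlgSpace M)
    (H : ∀ (W : Over S), IsAffine W.left → ∀ (a : (AlgSp.yon S).obj W ⟶ M), AlgSp.RepWith @Etale a →
      AlgSt.IsCatModuli (FibCat.fpFst (AlgSt.ofSpMap a) f)) : AlgSt.IsCatModuli f := by
  refine ⟨hM, fun N hN φ => ?_⟩
  have haff : ∀ (W : Over S), IsAffine W.left → ∀ a : (AlgSp.yon S).obj W ⟶ M, AlgSp.RepWith @Etale a →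
      ∃! h, Good f φ a h := fun W hW a ha => existsUnique_good_of_isCatModuli a hN (H W hW a ha)
  have hsep : ∀ {T : Over S} {ι : Type u} (W : ι → Over S) (c : ∀ i, W i ⟶ T) [∀ i, Flat (c i).left]
      [∀ i, LocallyOfFinitePresentation (c i).left] (h h' : (AlgSp.yon S).obj T ⟶ N),
      (∀ t, ∃ i, t ∈ Set.range (c i).left) → (∀ i, (AlgSp.yon S).map (c i) ≫ h = (AlgSp.yon S).map (c i) ≫ h') →
      h = h' := by
    intro T ι W c _ _ h h' hc he
    apply (GrothendieckTopology.uliftYonedaEquiv.{u + 1} (AlgSp.J S)).injective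
    refine ((Presieve.isSheafFor_iff_generate _).2 (((isSheaf_iff_isSheaf_of_type _ _).1 N.property) _
      (AlgSpLib.ofArrows_mem_J c hc))).isSeparatedFor.ext fun Y g hg => ?_
    obtain ⟨i⟩ := hg
    rw [GrothendieckTopology.uliftYonedaEquiv_naturality, GrothendieckTopology.uliftYonedaEquiv_naturality, he i]
  have hsepO : ∀ {T : Over S} {ι : Type u} (O : ι → T.left.Opens) (h h' : (AlgSp.yon S).obj T ⟶ N),
      (∀ t, ∃ i, t ∈ O i) → (∀ i, (AlgSp.yon S).map (Over.homMk (O i).ι rfl : Over.mk ((O i).ι ≫ T.hom) ⟶ T) ≫ h =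
        (AlgSp.yon S).map (Over.homMk (O i).ι rfl : Over.mk ((O i).ι ≫ T.hom) ⟶ T) ≫ h') → h = h' := by
    intro T ι O h h' hc he
    haveI : ∀ i, IsOpenImmersion (Over.homMk (O i).ι rfl : Over.mk ((O i).ι ≫ T.hom) ⟶ T).left :=
      fun i => inferInstanceAs (IsOpenImmersion (O i).ι)
    exact hsep _ _ h h' (fun t => (hc t).imp fun i hi => (O i).range_ι.symm.subset hi) he
  -- schemes etale over `M`
  have hsch : ∀ (U : Over S) (a : (AlgSp.yon S).obj U ⟶ M), AlgSp.RepWith @Etale a → ∃! h, Good f φ a h := by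
    intro U a ha
    let I : Type u := U.left.affineOpens
    let W : I → Over S := fun i => Over.mk (i.1.ι ≫ U.hom)
    let c : ∀ i, W i ⟶ U := fun i => Over.homMk i.1.ι rfl
    have hc : ∀ t : U.left, ∃ i, t ∈ Set.range (c i).left := fun t => by
      obtain ⟨V, hV, ht, -⟩ := exists_isAffineOpen_mem_and_subset (U := ⊤) (x := t) trivial
      exact ⟨⟨V, hV⟩, V.range_ι.symm.subset ht⟩
    haveI : ∀ i, IsOpenImmersion (c i).left := fun i => inferInstanceAs (IsOpenImmersion i.1.ι)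
    have hae : ∀ i, AlgSp.RepWith @Etale ((AlgSp.yon S).map (c i) ≫ a) := fun i =>
      AlgSpLib.RepWith.comp ((AlgSp.repWith_yon_map_iff (P := @Etale) (c i)).2 inferInstance) ha
    choose h hh huniq using fun i => haff (W i) i.2 _ (hae i)
    obtain ⟨s, hs, -⟩ := AlgSpLib.existsUnique_desc_sigma W h
    let π : sigmaOver W ⟶ U := Over.homMk (Sigma.desc fun i => (c i).left) (Sigma.hom_ext _ _ fun i => by
      simp [sigmaOver, W, c])
    have hπc : ∀ i, sigmaOverι W i ≫ π = c i := fun i => Over.OverMorphism.ext (Sigma.ι_desc _ _)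
    have : Etale π.left := IsZariskiLocalAtSource.sigmaDesc fun i => (inferInstance : Etale (c i).left)
    have : Surjective π.left := ⟨fun t => by
      obtain ⟨i, w, rfl⟩ := hc t
      exact ⟨(sigmaOverι W i).left w, by rw [← Scheme.Hom.comp_apply, ← Over.comp_left, hπc]⟩⟩
    obtain ⟨g, hg⟩ := AlgSpLib.LfpSpaces.exists_desc_of_etale (p := (AlgSp.yon S).map π)
      ((AlgSp.repWith_yon_map_iff (P := @Etale) π).2 ‹_›) ((AlgSp.repWith_yon_map_iff (P := @Surjective) π).2 ‹_›) s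
      (fun {V} g₁ g₂ e => AlgSpLib.hom_ext_of_yon fun T x => by
        obtain ⟨u₁, hu₁⟩ := (AlgSp.yon S).map_surjective (x ≫ g₁)
        obtain ⟨u₂, hu₂⟩ := (AlgSp.yon S).map_surjective (x ≫ g₂)
        rw [← Category.assoc, ← Category.assoc, ← hu₁, ← hu₂]
        have e' : u₁ ≫ π = u₂ ≫ π := (AlgSp.yon S).map_injective (by
          rw [Functor.map_comp, Functor.map_comp, hu₁, hu₂, Category.assoc, Category.assoc, e])
        have el := congrArg CommaMorphism.left e'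
        let O : I × I → T.left.Opens := fun ij =>
          u₁.left ⁻¹ᵁ (sigmaOverι W ij.1).left.opensRange ⊓ u₂.left ⁻¹ᵁ (sigmaOverι W ij.2).left.opensRange
        refine hsepO O _ _ (fun t => ?_) fun ij => ?_
        · obtain ⟨i, hi⟩ := AlgSpLib.exists_mem_range_sigmaOverι W (u₁.left t)
          obtain ⟨j, hj⟩ := AlgSpLib.exists_mem_range_sigmaOverι W (u₂.left t)
          exact ⟨(i, j), hi, hj⟩
        let o : Over.mk ((O ij).ι ≫ T.hom) ⟶ T := Over.homMk (O ij).ι rfl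
        have fac : ∀ (w : T ⟶ sigmaOver W) (k : I), O ij ≤ w.left ⁻¹ᵁ (sigmaOverι W k).left.opensRange →
            ∃ l, l ≫ sigmaOverι W k = o ≫ w := by
          intro w k hk
          let l := IsOpenImmersion.lift (sigmaOverι W k).left (o ≫ w).left (by
            rintro _ ⟨z, rfl⟩
            exact hk z.2)
          have hl : l ≫ (sigmaOverι W k).left = (o ≫ w).left := IsOpenImmersion.lift_fac _ _ _
          exact ⟨Over.homMk l (by rw [← Over.w (sigmaOverι W k), reassoc_of% hl, Over.w (o ≫ w)]),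
            Over.OverMorphism.ext hl⟩
        obtain ⟨l₁, hl₁⟩ := fac u₁ ij.1 inf_le_left
        obtain ⟨l₂, hl₂⟩ := fac u₂ ij.2 inf_le_right
        show (AlgSp.yon S).map o ≫ (AlgSp.yon S).map u₁ ≫ s = (AlgSp.yon S).map o ≫ (AlgSp.yon S).map u₂ ≫ s
        rw [← Category.assoc, ← Category.assoc, ← Functor.map_comp, ← Functor.map_comp, ← hl₁, ← hl₂,
          Functor.map_comp, Functor.map_comp, Category.assoc, Category.assoc, hs, hs]
        have el' : l₁ ≫ c ij.1 = l₂ ≫ c ij.2 := by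
          rw [← hπc, ← hπc, reassoc_of% hl₁, reassoc_of% hl₂, e']
        -- affine opens of the overlap
        let A := Over.mk ((O ij).ι ≫ T.hom)
        let P : Over S := Over.mk ((ij.1.1 ⊓ ij.2.1).ι ≫ U.hom)
        let d₁ : P ⟶ W ij.1 := Over.homMk (U.left.homOfLE inf_le_left) (by simp [W, P])
        let d₂ : P ⟶ W ij.2 := Over.homMk (U.left.homOfLE inf_le_right) (by simp [W, P])
        have hd₁ : d₁ ≫ c ij.1 = (Over.homMk (ij.1.1 ⊓ ij.2.1).ι rfl : P ⟶ U) :=
          Over.OverMorphism.ext (U.left.homOfLE_ι inf_le_left)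
        have hd₂ : d₂ ≫ c ij.2 = (Over.homMk (ij.1.1 ⊓ ij.2.1).ι rfl : P ⟶ U) :=
          Over.OverMorphism.ext (U.left.homOfLE_ι inf_le_right)
        have hP : (AlgSp.yon S).map d₁ ≫ h ij.1 = (AlgSp.yon S).map d₂ ≫ h ij.2 := by
          let IP : Type u := P.left.affineOpens
          refine hsepO (fun k : IP => k.1) _ _ (fun t => ?_) fun k => ?_
          · obtain ⟨V, hV, ht, -⟩ := exists_isAffineOpen_mem_and_subset (U := ⊤) (x := t) trivial
            exact ⟨⟨V, hV⟩, ht⟩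
          let ok : Over.mk (k.1.ι ≫ P.hom) ⟶ P := Over.homMk k.1.ι rfl
          haveI : IsOpenImmersion ok.left := inferInstanceAs (IsOpenImmersion k.1.ι)
          haveI : IsOpenImmersion d₁.left := inferInstanceAs (IsOpenImmersion (U.left.homOfLE (inf_le_left : ij.1.1 ⊓ ij.2.1 ≤ ij.1.1)))
          let aK := (AlgSp.yon S).map (ok ≫ d₁) ≫ (AlgSp.yon S).map (c ij.1) ≫ a
          have haK : AlgSp.RepWith @Etale aK := AlgSpLib.RepWith.comp
            ((AlgSp.repWith_yon_map_iff (P := @Etale) (ok ≫ d₁)).2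
              (inferInstanceAs (Etale (ok.left ≫ d₁.left)))) (hae ij.1)
          have e₂ : aK = (AlgSp.yon S).map (ok ≫ d₂) ≫ (AlgSp.yon S).map (c ij.2) ≫ a := by
            simp only [aK, ← Category.assoc, ← Functor.map_comp]
            rw [Category.assoc ok, Category.assoc ok, hd₁, hd₂]
          have hk₁ : Good f φ aK ((AlgSp.yon S).map (ok ≫ d₁) ≫ h ij.1) := Good.comp (ok ≫ d₁) (hh ij.1)
          have hk₂ : Good f φ aK ((AlgSp.yon S).map (ok ≫ d₂) ≫ h ij.2) := e₂ ▸ Good.comp (ok ≫ d₂) (hh ij.2)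
          rw [← Category.assoc, ← Category.assoc, ← Functor.map_comp, ← Functor.map_comp]
          exact (haff (Over.mk (k.1.ι ≫ P.hom)) k.2 aK haK).unique hk₁ hk₂
        have hr : Set.range (l₁ ≫ c ij.1).left ⊆ Set.range (ij.1.1 ⊓ ij.2.1).ι := by
          rintro _ ⟨z, rfl⟩
          rw [Scheme.Opens.range_ι]
          refine ⟨(l₁.left z).2, ?_⟩
          rw [el']
          exact (l₂.left z).2
        let m := IsOpenImmersion.lift (ij.1.1 ⊓ ij.2.1).ι (l₁ ≫ c ij.1).left hr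
        have hm : m ≫ (ij.1.1 ⊓ ij.2.1).ι = (l₁ ≫ c ij.1).left := IsOpenImmersion.lift_fac _ _ _
        let m' : A ⟶ P := Over.homMk m (by
          show m ≫ (ij.1.1 ⊓ ij.2.1).ι ≫ U.hom = _
          rw [reassoc_of% hm, Over.w])
        have h₁ : m' ≫ d₁ = l₁ := by
          haveI : Mono (c ij.1) := Over.mono_of_mono_left _
          rw [← cancel_mono (c ij.1), Category.assoc, hd₁]
          exact Over.OverMorphism.ext hm
        have h₂ : m' ≫ d₂ = l₂ := by
          haveI : Mono (c ij.2) := Over.mono_of_mono_left _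
          rw [← cancel_mono (c ij.2), Category.assoc, hd₂, ← el']
          exact Over.OverMorphism.ext hm
        rw [← h₁, ← h₂, Functor.map_comp, Functor.map_comp, Category.assoc, Category.assoc, hP])
    have hgi : ∀ i, (AlgSp.yon S).map (c i) ≫ g = h i := fun i => by
      rw [← hπc i, Functor.map_comp, Category.assoc, hg, hs]
    refine ⟨g, fun x u hx => ?_, fun g' hg' => hsep W c g' g hc fun i => ?_⟩
    · let O : I → (𝒵.p.obj x).left.Opens := fun i => u.left ⁻¹ᵁ i.1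
      refine hsepO O _ _ (fun t => ?_) fun i => ?_
      · obtain ⟨i, hi⟩ := hc (u.left t)
        exact ⟨i, i.1.range_ι.subset hi⟩
      let o : Over.mk ((O i).ι ≫ (𝒵.p.obj x).hom) ⟶ 𝒵.p.obj x := Over.homMk (O i).ι rfl
      obtain ⟨x', ψ, ex, hψ⟩ := fibGrpd_lift h𝒵 x o
      let l := IsOpenImmersion.lift i.1.ι (o ≫ u).left (by
        rintro _ ⟨z, rfl⟩
        exact i.1.range_ι.symm.subset z.2)
      have hl : l ≫ i.1.ι = (o ≫ u).left := IsOpenImmersion.lift_fac _ _ _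
      let l' : Over.mk ((O i).ι ≫ (𝒵.p.obj x).hom) ⟶ W i := Over.homMk l (by
        show l ≫ i.1.ι ≫ U.hom = _
        rw [reassoc_of% hl, Over.w])
      have hl' : l' ≫ c i = o ≫ u := Over.OverMorphism.ext hl
      have e := hh i x' (eqToHom ex ≫ l') (by
        rw [σ_map f ψ, hψ, ← Category.assoc, ← Functor.map_comp, Category.assoc, hl', ← hx]
        simp)
      rw [σ_map φ ψ, hψ, ← hgi i, ← Category.assoc, ← Functor.map_comp, Category.assoc, hl'] at e
      simp only [Functor.map_comp, Category.assoc] at e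
      exact (cancel_epi ((AlgSp.yon S).map (eqToHom ex))).1 e
    · rw [hgi]
      exact huniq i _ (Good.comp (c i) hg')
  obtain ⟨U, p, hpe, hps⟩ := hM.atlas
  obtain ⟨s, hs, hsu⟩ := hsch U p hpe
  haveI := AlgSpLib.epi_of_etale_surjective hpe hps
  obtain ⟨g, hg⟩ := AlgSpLib.LfpSpaces.exists_desc_of_etale hpe hps s (fun {V} g₁ g₂ e => AlgSpLib.hom_ext_of_yon fun T x => by
    have sq := hpe.1.isPullback p
    obtain ⟨π₁, hπ₁⟩ := (AlgSp.yon S).map_surjective (hpe.1.fst p)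
    let π₂ := hpe.1.snd p
    rw [← hπ₁] at sq
    obtain ⟨l, hl⟩ := (AlgSp.yon S).map_surjective (sq.lift (x ≫ g₁) (x ≫ g₂)
      (by rw [Category.assoc, Category.assoc, e]))
    have e₁ := Good.comp π₁ hs
    have e₂ : Good f φ ((AlgSp.yon S).map π₁ ≫ p) ((AlgSp.yon S).map π₂ ≫ s) := sq.w ▸ Good.comp π₂ hs
    have hq : AlgSp.RepWith @Etale ((AlgSp.yon S).map π₁ ≫ p) :=
      AlgSpLib.RepWith.comp (AlgSpLib.RepWith.baseChange sq.flip hpe) hpe
    have he := (hsch _ _ hq).unique e₁ e₂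
    rw [← Category.assoc, ← Category.assoc, ← sq.lift_fst (x ≫ g₁) (x ≫ g₂) (by rw [Category.assoc, Category.assoc, e])]
    conv_rhs => rw [← sq.lift_snd (x ≫ g₁) (x ≫ g₂) (by rw [Category.assoc, Category.assoc, e])]
    rw [← hl, Category.assoc, Category.assoc, he])
  refine ⟨g, ⟨eqToIso (σ_ext fun x => ?_)⟩, fun g' hg' => ?_⟩
  · rw [σ_ofSpMap]
    have sq := hpe.1.isPullback (σ f x)
    let v : hpe.1.pullback (σ f x) ⟶ 𝒵.p.obj x := hpe.1.snd (σ f x)
    obtain ⟨u, hu⟩ := (AlgSp.yon S).map_surjective (hpe.1.fst (σ f x))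
    rw [← hu] at sq
    have : Etale v.left := hpe.property_snd (σ f x)
    have : Surjective v.left := hps.2 _ _ _ sq
    refine hsep (fun _ : PUnit.{u + 1} => hpe.1.pullback (σ f x)) (fun _ => v) _ _
      (fun t => ⟨⟨⟩, v.left.surjective t⟩) fun _ => ?_
    obtain ⟨x', ψ, ex, hψ⟩ := fibGrpd_lift h𝒵 x v
    have e := hs x' (eqToHom ex ≫ u) (by
      rw [σ_map f ψ, hψ, Functor.map_comp, Category.assoc, sq.w]
      simp [v])
    rw [σ_map φ ψ, hψ, ← hg] at e
    simp only [Functor.map_comp, Category.assoc] at e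
    have e' := (cancel_epi ((AlgSp.yon S).map (eqToHom ex))).1 e
    rw [← Category.assoc, ← sq.w, Category.assoc]
    exact e'
  · obtain ⟨i⟩ := hg'
    have e := eq_of_iso i
    rw [← cancel_epi p, hg]
    exact hsu _ fun x u hx => by
      rw [← Category.assoc, hx, ← σ_ofSpMap, e]

/-- Categorical moduli spaces transfer along equivalences. -/
theorem isCatModuli_comp_equiv {E : 𝒲 ⥤ᵇ 𝒵} (hE : IsEquivOver E) (hf : AlgSt.IsCatModuli f) :
    AlgSt.IsCatModuli (BasedFunctor.comp E f) := by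
  obtain ⟨G, -, ⟨u⟩, ⟨c⟩⟩ := exists_inverse hE
  refine ⟨hf.1, fun N hN φ => ?_⟩
  obtain ⟨g, ⟨i⟩, hu⟩ := hf.2 N hN (BasedFunctor.comp G φ)
  have e := eq_of_iso i
  have e₁ : BasedFunctor.comp E (BasedFunctor.comp G φ) = φ := eq_of_iso ((postB _ φ).mapIso u)
  refine ⟨g, ⟨eqToIso ((congrArg (BasedFunctor.comp E) e).trans e₁)⟩, fun g' hg' => hu g' ?_⟩
  obtain ⟨i'⟩ := hg'
  have e₂ : BasedFunctor.comp G (BasedFunctor.comp E (BasedFunctor.comp f (AlgSt.ofSpMap g'))) =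
      BasedFunctor.comp f (AlgSt.ofSpMap g') := eq_of_iso ((postB _ (BasedFunctor.comp f (AlgSt.ofSpMap g'))).mapIso c)
  exact ⟨eqToIso (e₂.symm.trans (congrArg (BasedFunctor.comp G) (eq_of_iso i')))⟩

theorem isUnifCatModuli_of_affine_flat {𝒳 : AlgSt.Cat S} (h𝒳 : IsFibGrpd 𝒳.p) {Y : AlgSp.Sp S}
    (hY : AlgSp.IsAlgSpace Y) (f : 𝒳 ⥤ᵇ AlgSt.ofSp Y)
    (hf : ∀ (Y' : Over S), IsAffine Y'.left → ∀ (g : (AlgSp.yon S).obj Y' ⟶ Y), AlgSp.LocP @Flat g →
      AlgSt.IsCatModuli (FibCat.fpFst (AlgSt.ofSpMap g) f)) :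
    AlgSt.IsUnifCatModuli f := by
  have hflat : ∀ {W : Over S} {M : AlgSp.Sp S} (a : (AlgSp.yon S).obj W ⟶ M), AlgSp.RepWith @Etale a →
      AlgSp.LocP @Flat a := fun a ha => AlgSpLib.locP_of_repWith AlgSpLib.etLocal_flat (AlgSp.IsAlgSpace.yon_obj _)
    (AlgSpLib.RepWith.mono (fun _ _ g (_ : Etale g) => (inferInstance : Flat g)) ha)
  refine ⟨isCatModuli_of_local h𝒳 hY fun W hW a ha => hf W hW a (hflat a ha), fun M hM g hg => ?_⟩
  refine isCatModuli_of_local (fibGrpd_fp (setoid_ofSp _).1 h𝒳 (setoid_ofSp _).1 _ _) hM fun W hW a ha => ?_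
  have hag : AlgSp.LocP @Flat (a ≫ g) :=
    AlgSpLib.locP_comp AlgSpLib.etLocal_flat (AlgSp.IsAlgSpace.yon_obj W) hM hY (hflat a ha) hg
  have h := hf W hW (a ≫ g) hag
  rw [← ofSpMap_comp] at h
  exact isCatModuli_comp_equiv (isEquivOver_fpPaste (AlgSt.ofSpMap a) (AlgSt.ofSpMap g) f) h

end Groth.Agent.Stk19b.Moduli
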