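import Groth.Agent.Stk19b.Moduli.Local
import Groth.Agent.Stk19b.RedInd
import Groth.Agent.AlgSpLib.RedUniv
import Groth.Agent.Stk19.AlgSt.SepDiag

/-! Categorical moduli spaces of reduced algebraic stacks are reduced. -/

set_option autoImplicit false
set_option backward.isDefEq.respectTransparency false
set_option backward.isDefEq.respectTransparency.types false

universe u

open CategoryTheory CategoryTheory.Limits AlgebraicGeometry Opposite FibCat
open Groth.Agent.Stk19 Groth.Agent.Stk19b.Quot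

namespace Groth.Agent.Stk19b.Moduli

variable {S : Scheme.{u}} {𝒳 : AlgSt.Cat S} {M Z : AlgSp.Sp S}

theorem σ_toId {T : Over S} (G : overCat T ⥤ᵇ AlgSt.ofSp M) (b : (overCat T).obj) :
    σ G b = (AlgSp.yon S).map b.hom ≫ σ G (Over.mk (𝟙 T)) := by
  rw [σ_map G (toId b)]
  rfl

/-- Lifting along a monomorphism of sheaves can be tested on a flat cover of finite presentation. -/
theorem exists_lift_of_cover {i : Z ⟶ M} [Mono i] {W T : Over S} (c : W ⟶ T) [Flat c.left]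
    [LocallyOfFinitePresentation c.left] [Surjective c.left] (t : (AlgSp.yon S).obj T ⟶ M)
    (s : (AlgSp.yon S).obj W ⟶ Z) (h : s ≫ i = (AlgSp.yon S).map c ≫ t) :
    ∃ t' : (AlgSp.yon S).obj T ⟶ Z, t' ≫ i = t := by
  let e := fun (X : Over S) (F : AlgSp.Sp S) =>
    GrothendieckTopology.uliftYonedaEquiv.{u + 1} (AlgSp.J S) (X := X) (F := F)
  have hJ : Sieve.ofArrows (fun _ : PUnit.{u + 1} => W) (fun _ => c) ∈ AlgSp.J S T :=
    AlgSpLib.ofArrows_mem_J (fun _ : PUnit.{u + 1} => c) fun z => ⟨⟨⟩, c.left.surjective z⟩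
  have hs := (Presieve.isSheafFor_iff_generate _).2 (((isSheaf_iff_isSheaf_of_type _ _).1 Z.property) _ hJ)
  obtain ⟨z, hz, -⟩ := (Presieve.isSheafFor_arrows_iff _ _).1 hs (fun _ => e W Z s) (fun _ _ V g₁ g₂ hg => by
    refine (GrothendieckTopology.uliftYonedaEquiv_naturality _ _ g₁).trans
      ((congrArg (e V Z) ?_).trans (GrothendieckTopology.uliftYonedaEquiv_naturality _ _ g₂).symm)
    rw [← cancel_mono i, Category.assoc, Category.assoc, h, ← Category.assoc, ← Category.assoc,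
      ← Functor.map_comp, ← Functor.map_comp, hg])
  refine ⟨(e T Z).symm z, ?_⟩
  have hc : (AlgSp.yon S).map c ≫ (e T Z).symm z = s := (e W Z).injective (by
    refine (GrothendieckTopology.uliftYonedaEquiv_naturality _ _ c).symm.trans ?_
    rw [Equiv.apply_symm_apply]
    exact hz ⟨⟩)
  apply (e T M).injective
  refine ((Presieve.isSheafFor_iff_generate _).2 (((isSheaf_iff_isSheaf_of_type _ _).1 M.property) _ hJ)).isSeparatedFor.ext
    fun Y g hg => ?_
  obtain ⟨⟨⟩⟩ := hg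
  rw [GrothendieckTopology.uliftYonedaEquiv_naturality, GrothendieckTopology.uliftYonedaEquiv_naturality,
    reassoc_of% hc, h]

/-- A categorical moduli space of a reduced algebraic stack is reduced. -/
theorem isReducedSp_of_isCatModuli (h𝒳 : AlgSt.IsAlgStack Scheme.fppfPrecoverage 𝒳)
    (hred : AlgSt.SmoothLocally (fun X => IsReduced X) 𝒳) (π : 𝒳 ⥤ᵇ AlgSt.ofSp M) (hπ : AlgSt.IsCatModuli π) :
    AlgSp.IsReducedSp M := by
  obtain ⟨Z, i, hi, hr, hZ⟩ := RedInd.exists_isRedInduced ⟨M, hπ.1⟩ Set.univ isClosed_univ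
  obtain ⟨Z, hZalg⟩ := Z
  obtain ⟨i₀, rfl⟩ : ∃ i₀ : Z ⟶ M, ObjectProperty.homMk i₀ = i := ⟨i.hom, rfl⟩
  change AlgSp.RepWith @IsClosedImmersion i₀ at hi
  change Set.range (AlgSp.Points.map i₀) = _ at hr
  have : Mono i₀ := AlgSpLib.mono_of_repWith
    (fun _ _ g (hg : IsClosedImmersion g) => MorphismProperty.monomorphisms.infer_property g) hi
  obtain ⟨U, x, hx, hxs⟩ := h𝒳.atlas
  have : IsReduced U.left := hred U x hx
  obtain ⟨s₀, hs₀⟩ := AlgSpLib.exists_lift_of_reduced (X := (AlgSp.yon S).obj U)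
    ⟨U, 𝟙 _, MorphismProperty.id_mem _ _, MorphismProperty.id_mem _ _, ‹_›⟩ hi
    (f := σ (BasedFunctor.comp x π) (Over.mk (𝟙 U))) (fun m _ => hr ▸ Set.mem_univ m)
  have hlift : ∀ a : 𝒳.obj, ∃ s : (AlgSp.yon S).obj (𝒳.p.obj a) ⟶ Z, s ≫ i₀ = σ π a := fun a => by
    obtain ⟨F, j, hj⟩ := exists_classifying h𝒳.isStack.1 a rfl
    obtain ⟨W, c, _, _, l, -, ⟨e⟩, -⟩ := exists_cover_lift hx hxs F F
    have e₁ : BasedFunctor.comp l (BasedFunctor.comp x π) =
        BasedFunctor.comp (AlgSt.overMap c) (BasedFunctor.comp F π) := eq_of_iso ((postB _ π).mapIso e)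
    have e₂ := congrArg (fun G => σ G (Over.mk (𝟙 W))) e₁
    rw [σ_comp l (BasedFunctor.comp x π), σ_comp (AlgSt.overMap c) (BasedFunctor.comp F π), σ_toId (BasedFunctor.comp x π), σ_toId (BasedFunctor.comp F π) ((AlgSt.overMap c).obj _), ← hs₀] at e₂
    have e₂' : ((AlgSp.yon S).map (eqToHom (l.w_obj (Over.mk (𝟙 W))).symm) ≫ (AlgSp.yon S).map (l.obj (Over.mk (𝟙 W))).hom ≫ s₀) ≫ i₀ =
        (AlgSp.yon S).map c ≫ σ (BasedFunctor.comp F π) (Over.mk (𝟙 _)) := by
      simp only [Category.assoc]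
      refine e₂.trans ?_
      simp [AlgSt.overMap]
    obtain ⟨t', ht'⟩ := exists_lift_of_cover (i := i₀) c _ _ e₂'
    have ej : σ π (F.obj (Over.mk (𝟙 (𝒳.p.obj a)))) = (AlgSp.yon S).map (𝒳.p.map j.hom) ≫ σ π a := σ_map π j.hom
    refine ⟨(AlgSp.yon S).map (inv (𝒳.p.map j.hom) ≫ eqToHom (F.w_obj _)) ≫ t', ?_⟩
    rw [Category.assoc, ht', σ_comp, Functor.map_comp, Category.assoc, ← Functor.map_comp_assoc (AlgSp.yon S),
      ej]
    simp
  choose s hs using hlift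
  let φ : 𝒳 ⥤ᵇ AlgSt.ofSp Z :=
    { toFunctor :=
        { obj := fun a => ⟨𝒳.p.obj a, GrothendieckTopology.uliftYonedaEquiv.{u + 1} (AlgSp.J S) (s a)⟩
          map := fun {a b} f => ⟨𝒳.p.map f, by
            refine (GrothendieckTopology.uliftYonedaEquiv_naturality _ _ _).trans (congrArg _ ?_)
            rw [← cancel_mono i₀, Category.assoc, hs, hs, ← σ_map]⟩
          map_id := fun a => Stk.EltObj.hom_ext (𝒳.p.map_id a)
          map_comp := fun f g => Stk.EltObj.hom_ext (𝒳.p.map_comp f g) }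
      w := rfl }
  have hφ : ∀ a, σ φ a = s a := fun a => by
    show (AlgSp.yon S).map (𝟙 _) ≫ _ = _
    rw [CategoryTheory.Functor.map_id, Category.id_comp]
    exact Equiv.symm_apply_apply _ _
  obtain ⟨g, ⟨k⟩, -⟩ := hπ.2 Z hZalg φ
  obtain ⟨g₀, -, hu⟩ := hπ.2 M hπ.1 π
  have h1 : g ≫ i₀ = g₀ := hu _ ⟨eqToIso (σ_ext fun a => by
    rw [σ_ofSpMap, ← Category.assoc, ← σ_ofSpMap, eq_of_iso k, hφ, hs])⟩
  have h2 : 𝟙 M = g₀ := hu _ ⟨eqToIso (σ_ext fun a => by rw [σ_ofSpMap, Category.comp_id])⟩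
  have h3 : g ≫ i₀ = 𝟙 M := h1.trans h2.symm
  exact AlgSpLib.EtaleLocally.of_iso' hZ
    ⟨i₀, g, by rw [← cancel_mono i₀, Category.assoc, h3]; simp, h3⟩

end Groth.Agent.Stk19b.Moduli
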